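import Groth.Prelude.Def_SixF1
import Groth.Agent.DerPlusAdjLib.Main
import Groth.Agent.DerLib.LerayAcyclic
import Groth.Agent.EtShLib.Constructible

/-!
# The base change morphism of sheaves of modules on bounded below complexes of injectives
-/

set_option autoImplicit false
set_option linter.unusedSectionVars false
set_option linter.style.haveILetI false
set_option backward.isDefEq.respectTransparency false
set_option backward.isDefEq.respectTransparency.types false
set_option maxHeartbeats 2000000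
set_option synthInstance.maxHeartbeats 400000

universe u

open CategoryTheory CategoryTheory.Limits AlgebraicGeometry Opposite

attribute [local instance] HasDerivedCategory.standard

noncomputable section

namespace EtPBCCxLib

section Generic

universe w w' v v' z z'

variable {A : Type z} {B : Type z'} [Category.{v} A] [Category.{v'} B] [Abelian A] [Abelian B]
  {L : A ⥤ B} {R : B ⥤ A} (adj : L ⊣ R) [L.Additive] [R.Additive]

theorem ι_map_mapPlusAdj_counit (K : HomotopyCategory.Plus B) :
    (HomotopyCategory.Plus.ι B).map ((DerPlusAdjLib.mapPlusAdj adj).counit.app K) =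
      (Groth.Agent.DerLib.KInjDerived.mapHomotopyCategoryAdj adj (ComplexShape.up ℤ)).counit.app
        ((HomotopyCategory.Plus.ι B).obj K) := by
  unfold DerPlusAdjLib.mapPlusAdj
  erw [Adjunction.map_restrictFullyFaithful_counit_app]
  simp only [Iso.refl_inv, NatTrans.id_app, Functor.comp_obj]
  erw [CategoryTheory.Functor.map_id, Category.id_comp, Category.id_comp]

theorem exists_symm_eq {C D : Type*} [Category C] [Category D] {G : C ⥤ D} {T : D ⥤ C} (a a' : G ⊣ T) (P : C) :
    ∃ e : G.obj P ≅ G.obj P, ∀ {Q : D} (φ : P ⟶ T.obj Q),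
      (a.homEquiv P Q).symm φ = e.hom ≫ (a'.homEquiv P Q).symm φ := by
  refine ⟨(a.leftAdjointUniq a').app P, fun {Q} φ => ?_⟩
  rw [Adjunction.homEquiv_counit, Adjunction.homEquiv_counit, Iso.app_hom]
  erw [reassoc_of% ((a.leftAdjointUniq a').hom.naturality φ).symm]
  rw [Adjunction.leftAdjointUniq_hom_app_counit]

variable [HasDerivedCategory.{w} A] [HasDerivedCategory.{w'} B] [EnoughInjectives A] [EnoughInjectives B]
  [PreservesFiniteLimits L] [PreservesFiniteColimits L]

/-- The canonical adjunction of derived functors, with its counit. -/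
theorem exists_canAdj : ∃ a : L.rightDerivedFunctorPlus ⊣ R.rightDerivedFunctorPlus,
    ∀ K : HomotopyCategory.Plus B,
      L.rightDerivedFunctorPlusUnit.app (R.mapHomotopyCategoryPlus.obj K) ≫
          L.rightDerivedFunctorPlus.map (R.rightDerivedFunctorPlusUnit.app K) ≫
          a.counit.app (DerivedCategory.Plus.Qh.obj K) =
        DerivedCategory.Plus.Qh.map ((DerPlusAdjLib.mapPlusAdj adj).counit.app K) := by
  haveI := DerPlusAdjLib.isIso_unit_of_exact (L := L)
  let WA := HomotopyCategory.Plus.quasiIso A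
  let WB := HomotopyCategory.Plus.quasiIso B
  let e := (asIso L.rightDerivedFunctorPlusUnit).symm
  let β := R.rightDerivedFunctorPlusUnit
  haveI : L.rightDerivedFunctorPlus.IsLeftDerivedFunctor e.hom WA :=
    Functor.isLeftDerivedFunctor_of_inverts WA _ e
  haveI : (L.rightDerivedFunctorPlus ⋙ R.rightDerivedFunctorPlus).IsLeftDerivedFunctor
      ((Functor.associator _ _ _).inv ≫ Functor.whiskerRight e.hom R.rightDerivedFunctorPlus) WA :=
    Functor.isLeftDerivedFunctor_of_inverts WA _
      ((Functor.associator _ _ _).symm ≪≫ Functor.isoWhiskerRight e R.rightDerivedFunctorPlus)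
  haveI : (R.rightDerivedFunctorPlus ⋙ L.rightDerivedFunctorPlus).IsRightDerivedFunctor
      (Functor.whiskerRight β L.rightDerivedFunctorPlus ≫ (Functor.associator _ _ _).hom) WB := by
    refine (HomotopyCategory.Plus.localizerMorphism_derives _).isRightDerivedFunctor_of_isIso _ fun X => ?_
    rw [NatTrans.comp_app, Functor.whiskerRight_app]
    infer_instance
  refine ⟨(DerPlusAdjLib.mapPlusAdj adj).derived WA WB e.hom β, fun K => ?_⟩
  have h := (DerPlusAdjLib.mapPlusAdj adj).derivedε_fac_app WB e.hom β K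
  erw [h]
  exact (asIso L.rightDerivedFunctorPlusUnit).hom_inv_id_app_assoc _ _

end Generic

variable (Λ : Type (u + 1)) [CommRing Λ]

theorem pullMod_pfl {A B : Scheme.{u}} (h : A ⟶ B) : PreservesFiniteLimits (EtModW.pull Λ h) :=
  Groth.Agent.EtShLib.preservesFiniteLimits_pullA (A := ModuleCat.{u + 1} Λ) h

theorem pullMod_pfc {A B : Scheme.{u}} (h : A ⟶ B) : PreservesFiniteColimits (EtModW.pull Λ h) :=
  haveI : (EtModW.pull Λ h).IsLeftAdjoint := (EtSix.pullPushModAdj Λ h).isLeftAdjoint
  inferInstance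

attribute [local instance] pullMod_pfl pullMod_pfc

/-- Bounded below homotopy category. -/
abbrev KP (X : Scheme.{u}) := HomotopyCategory.Plus (EtModW.Mod Λ X)

abbrev QP (X : Scheme.{u}) : KP Λ X ⥤ DerivedCategory.Plus (EtModW.Mod Λ X) := DerivedCategory.Plus.Qh

variable {X S X' S' : Scheme.{u}}

abbrev vP (h : X' ⟶ X) := (EtModW.pull Λ h).rightDerivedFunctorPlusUnit

abbrev uP (h : X' ⟶ X) := (EtModW.push Λ h).rightDerivedFunctorPlusUnit

instance isIso_vP (h : X' ⟶ X) : IsIso (vP Λ h) := DerPlusAdjLib.isIso_unit_of_exact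

/-- The adjunction on bounded below homotopy categories. -/
abbrev adjK (h : X' ⟶ X) := DerPlusAdjLib.mapPlusAdj (EtSix.pullPushModAdj Λ h)

/-- The canonical derived adjunction. -/
def canAdjP (g : S' ⟶ S) :
    (EtModW.pull Λ g).rightDerivedFunctorPlus ⊣ (EtModW.push Λ g).rightDerivedFunctorPlus :=
  (exists_canAdj (EtSix.pullPushModAdj Λ g)).choose

theorem canAdjP_counit (g : S' ⟶ S) (A : KP Λ S') :
    (vP Λ g).app ((EtModW.push Λ g).mapHomotopyCategoryPlus.obj A) ≫
        (EtModW.pull Λ g).rightDerivedFunctorPlus.map ((uP Λ g).app A) ≫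
        (canAdjP Λ g).counit.app ((QP Λ S').obj A) =
      (QP Λ S').map ((adjK Λ g).counit.app A) :=
  (exists_canAdj (EtSix.pullPushModAdj Λ g)).choose_spec A

variable (f : X ⟶ S) (g : S' ⟶ S) (f' : X' ⟶ S') (g' : X' ⟶ X) (w : g' ≫ f = f' ≫ g)

/-- The morphism of bounded below complexes under the base change morphism. -/
def plusMap (C : KP Λ X) :
    (EtModW.pull Λ g).mapHomotopyCategoryPlus.obj ((EtModW.push Λ f).mapHomotopyCategoryPlus.obj C) ⟶
      (EtModW.push Λ f').mapHomotopyCategoryPlus.obj ((EtModW.pull Λ g').mapHomotopyCategoryPlus.obj C) :=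
  (EtModW.pull Λ g).mapHomotopyCategoryPlus.map
      ((EtSix.plusNatTrans (EtSix.pushToPushPullMod Λ f g f' g' w)).app C ≫
        (Functor.mapHomotopyCategoryPlusCompIso
          (Iso.refl (EtModW.pull Λ g' ⋙ (EtModW.push Λ f' ⋙ EtModW.push Λ g)))).inv.app C ≫
        (Functor.mapHomotopyCategoryPlusCompIso (Iso.refl (EtModW.push Λ f' ⋙ EtModW.push Λ g))).inv.app
          ((EtModW.pull Λ g').mapHomotopyCategoryPlus.obj C)) ≫
    (adjK Λ g).counit.app _

/-- The base change morphism on a complex, for the canonical adjunction. -/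
theorem unit_bcMapMod (C : KP Λ X) :
    (vP Λ g).app ((EtModW.push Λ f).mapHomotopyCategoryPlus.obj C) ≫
        (EtModW.pull Λ g).rightDerivedFunctorPlus.map ((uP Λ f).app C) ≫
        EtSix.bcMapMod Λ f g f' g' w (canAdjP Λ g) ((QP Λ X).obj C) =
      (QP Λ S').map (plusMap Λ f g f' g' w C) ≫
        (uP Λ f').app ((EtModW.pull Λ g').mapHomotopyCategoryPlus.obj C) ≫
        (EtModW.push Λ f').rightDerivedFunctorPlus.map ((vP Λ g').app C) := by
  let B := (EtModW.pull Λ g').mapHomotopyCategoryPlus.obj C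
  let A := (EtModW.push Λ f').mapHomotopyCategoryPlus.obj B
  let m := (EtSix.plusNatTrans (EtSix.pushToPushPullMod Λ f g f' g' w)).app C ≫
        (Functor.mapHomotopyCategoryPlusCompIso
          (Iso.refl (EtModW.pull Λ g' ⋙ (EtModW.push Λ f' ⋙ EtModW.push Λ g)))).inv.app C ≫
        (Functor.mapHomotopyCategoryPlusCompIso (Iso.refl (EtModW.push Λ f' ⋙ EtModW.push Λ g))).inv.app B
  let T := (uP Λ f').app B ≫ (EtModW.push Λ f').rightDerivedFunctorPlus.map ((vP Λ g').app C)
  have hd : (uP Λ f).app C ≫ (EtSix.bcAdjMod Λ f g f' g' w).app ((QP Λ X).obj C) =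
      (EtSix.rPlusUnit₃ (EtSix.pushToPushPullMod Λ f g f' g' w)).app C :=
    Functor.rightDerived_fac_app _ (uP Λ f) (HomotopyCategory.Plus.quasiIso (EtModW.Mod Λ X)) _
      (EtSix.rPlusUnit₃ (EtSix.pushToPushPullMod Λ f g f' g' w)) C
  have hu : (EtSix.rPlusUnit₃ (EtSix.pushToPushPullMod Λ f g f' g' w)).app C =
      ((QP Λ S).map m ≫ (uP Λ g).app A) ≫ (EtModW.push Λ g).rightDerivedFunctorPlus.map T := by
    simp [EtSix.rPlusUnit₃, m, T, A, B]
  dsimp only [EtSix.bcMapMod]
  erw [← Adjunction.homEquiv_naturality_left_symm, hd, hu]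
  rw [Adjunction.homEquiv_naturality_right_symm, Adjunction.homEquiv_counit, Functor.map_comp]
  simp only [Category.assoc]
  have hn := (vP Λ g).naturality m
  refine (reassoc_of% hn.symm) _ |>.trans ?_
  erw [reassoc_of% (canAdjP_counit Λ g A)]
  erw [← Functor.map_comp_assoc]
  rfl

/-- Invertibility of the base change morphism does not depend on the adjunction. -/
theorem isIso_bcMapMod_adj (adj adj' : (EtModW.pull Λ g).rightDerivedFunctorPlus ⊣ (EtModW.push Λ g).rightDerivedFunctorPlus)
    (K : DerivedCategory.Plus (EtModW.Mod Λ X))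
    (h : IsIso (EtSix.bcMapMod Λ f g f' g' w adj' K)) : IsIso (EtSix.bcMapMod Λ f g f' g' w adj K) := by
  obtain ⟨e, he'⟩ := exists_symm_eq adj adj' ((EtModW.push Λ f).rightDerivedFunctorPlus.obj K)
  have he : EtSix.bcMapMod Λ f g f' g' w adj K = e.hom ≫ EtSix.bcMapMod Λ f g f' g' w adj' K := he' _
  rw [he]
  haveI := h
  infer_instance

theorem bcMapMod_natural (adj : (EtModW.pull Λ g).rightDerivedFunctorPlus ⊣ (EtModW.push Λ g).rightDerivedFunctorPlus)
    {K K' : DerivedCategory.Plus (EtModW.Mod Λ X)} (a : K ⟶ K') :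
    (EtModW.pull Λ g).rightDerivedFunctorPlus.map ((EtModW.push Λ f).rightDerivedFunctorPlus.map a) ≫
        EtSix.bcMapMod Λ f g f' g' w adj K' =
      EtSix.bcMapMod Λ f g f' g' w adj K ≫
        (EtModW.push Λ f').rightDerivedFunctorPlus.map ((EtModW.pull Λ g').rightDerivedFunctorPlus.map a) := by
  dsimp only [EtSix.bcMapMod]
  rw [← Adjunction.homEquiv_naturality_left_symm, ← Adjunction.homEquiv_naturality_right_symm]
  exact congrArg _ ((EtSix.bcAdjMod Λ f g f' g' w).naturality a)

/-- Base change on a complex, term by term. -/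
def kappaMod (I : CochainComplex (EtModW.Mod Λ X) ℤ) :
    ((EtModW.pull Λ g).mapHomologicalComplex (ComplexShape.up ℤ)).obj
        (((EtModW.push Λ f).mapHomologicalComplex _).obj I) ⟶
      ((EtModW.push Λ f').mapHomologicalComplex _).obj (((EtModW.pull Λ g').mapHomologicalComplex _).obj I) where
  f n := EtSix.baseChange0Mod Λ f g f' g' w (I.X n)
  comm' i j _ := by
    show EtSix.baseChange0Mod Λ f g f' g' w (I.X i) ≫
        (EtModW.push Λ f').map ((EtModW.pull Λ g').map (I.d i j)) =
      (EtModW.pull Λ g).map ((EtModW.push Λ f).map (I.d i j)) ≫ EtSix.baseChange0Mod Λ f g f' g' w (I.X j)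
    dsimp only [EtSix.baseChange0Mod]
    rw [← Adjunction.homEquiv_naturality_left_symm, ← Adjunction.homEquiv_naturality_right_symm]
    exact congrArg _ ((EtSix.pushToPushPullMod Λ f g f' g' w).naturality (I.d i j)).symm

theorem ι_map_plusMap (I : CochainComplex.Plus (EtModW.Mod Λ X)) :
    (HomotopyCategory.Plus.ι _).map (plusMap Λ f g f' g' w ((HomotopyCategory.Plus.quotient _).obj I)) =
      (HomotopyCategory.quotient _ _).map (kappaMod Λ f g f' g' w I.obj) := by
  let ψ : ((EtModW.push Λ f).mapHomologicalComplex (ComplexShape.up ℤ)).obj I.obj ⟶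
      ((EtModW.push Λ g).mapHomologicalComplex _).obj (((EtModW.push Λ f').mapHomologicalComplex _).obj
        (((EtModW.pull Λ g').mapHomologicalComplex _).obj I.obj)) :=
    { f := fun n => (EtSix.pushToPushPullMod Λ f g f' g' w).app (I.obj.X n)
      comm' := fun i j _ => ((EtSix.pushToPushPullMod Λ f g f' g' w).naturality (I.obj.d i j)).symm }
  have hm : (HomotopyCategory.Plus.ι _).map
      ((EtSix.plusNatTrans (EtSix.pushToPushPullMod Λ f g f' g' w)).app ((HomotopyCategory.Plus.quotient _).obj I) ≫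
        (Functor.mapHomotopyCategoryPlusCompIso
          (Iso.refl (EtModW.pull Λ g' ⋙ (EtModW.push Λ f' ⋙ EtModW.push Λ g)))).inv.app
            ((HomotopyCategory.Plus.quotient _).obj I) ≫
        (Functor.mapHomotopyCategoryPlusCompIso (Iso.refl (EtModW.push Λ f' ⋙ EtModW.push Λ g))).inv.app
          ((EtModW.pull Λ g').mapHomotopyCategoryPlus.obj ((HomotopyCategory.Plus.quotient _).obj I))) =
      (HomotopyCategory.quotient _ _).map ψ := by
    simp [EtSix.plusNatTrans, Functor.mapHomotopyCategoryPlusCompIso, Functor.mapHomotopyCategoryCompIso,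
      NatTrans.mapHomotopyCategory]
    congr 1
  have hl : ∀ {P Q : KP Λ S} (a : P ⟶ Q),
      (HomotopyCategory.Plus.ι _).map ((EtModW.pull Λ g).mapHomotopyCategoryPlus.map a) =
        ((EtModW.pull Λ g).mapHomotopyCategory (ComplexShape.up ℤ)).map ((HomotopyCategory.Plus.ι _).map a) :=
    fun a => rfl
  rw [plusMap, Functor.map_comp]
  erw [ι_map_mapPlusAdj_counit]
  rw [hl]
  erw [hm]
  show (HomotopyCategory.quotient _ _).map (((EtModW.pull Λ g).mapHomologicalComplex _).map ψ) ≫
    (HomotopyCategory.quotient _ _).map _ = _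
  rw [← Functor.map_comp]
  refine congrArg (HomotopyCategory.quotient _ _).map ?_
  refine HomologicalComplex.hom_ext _ _ fun n => ?_
  exact (Adjunction.homEquiv_counit (EtSix.pullPushModAdj Λ g) _ _ _).symm

/-- The base change morphism is invertible as soon as base change on an injective resolution is a quasi-isomorphism. -/
theorem isIso_bcMapMod (adj : (EtModW.pull Λ g).rightDerivedFunctorPlus ⊣ (EtModW.push Λ g).rightDerivedFunctorPlus)
    (K : DerivedCategory.Plus (EtModW.Mod Λ X))
    (H : ∀ (I : CochainComplex (EtModW.Mod Λ X) ℤ) (J : CochainComplex (EtModW.Mod Λ X') ℤ) (m : ℤ),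
      I.IsStrictlyGE m → J.IsStrictlyGE m → (∀ n, Injective (I.X n)) → (∀ n, Injective (J.X n)) →
      (∀ i, Nonempty (I.homology i ≅ (DerivedCategory.Plus.homologyFunctor (EtModW.Mod Λ X) i).obj K)) →
      ∀ ψ : ((EtModW.pull Λ g').mapHomologicalComplex _).obj I ⟶ J, QuasiIso ψ →
        QuasiIso (kappaMod Λ f g f' g' w I ≫ ((EtModW.push Λ f').mapHomologicalComplex _).map ψ)) :
    IsIso (EtSix.bcMapMod Λ f g f' g' w adj K) := by
  refine isIso_bcMapMod_adj Λ f g f' g' w adj (canAdjP Λ g) K ?_
  haveI := Localization.essSurj (QP Λ X) (HomotopyCategory.Plus.quasiIso (EtModW.Mod Λ X))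
  obtain ⟨C₀, hC₀⟩ := HomotopyCategory.Plus.quotient_obj_surjective ((QP Λ X).objPreimage K)
  obtain ⟨c, hc⟩ := C₀.property
  haveI : C₀.obj.IsStrictlyGE c := hc
  obtain ⟨L, i, _, _, _⟩ := CochainComplex.Plus.modelCategoryQuillen.exists_quasiIso_injective C₀.obj c
  let I : CochainComplex.Plus (EtModW.Mod Λ X) := ⟨L, c, ‹_›⟩
  let C := (HomotopyCategory.Plus.quotient (EtModW.Mod Λ X)).obj I
  haveI : IsIso ((QP Λ X).map ((HomotopyCategory.Plus.quotient _).map (ObjectProperty.homMk i : C₀ ⟶ I))) :=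
    Localization.inverts (QP Λ X) (HomotopyCategory.Plus.quasiIso _) _
      ((HomotopyCategory.quotient_map_mem_quasiIso_iff i).2 ((HomologicalComplex.mem_quasiIso_iff _).2 ‹_›))
  let a : (QP Λ X).obj C ≅ K :=
    (asIso ((QP Λ X).map ((HomotopyCategory.Plus.quotient _).map (ObjectProperty.homMk i : C₀ ⟶ I)))).symm ≪≫
      (QP Λ X).mapIso (eqToIso hC₀) ≪≫ (QP Λ X).objObjPreimageIso K
  suffices IsIso (EtSix.bcMapMod Λ f g f' g' w (canAdjP Λ g) ((QP Λ X).obj C)) by
    have h := bcMapMod_natural Λ f g f' g' w (canAdjP Λ g) a.hom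
    haveI : IsIso ((EtModW.pull Λ g).rightDerivedFunctorPlus.map ((EtModW.push Λ f).rightDerivedFunctorPlus.map a.hom) ≫
        EtSix.bcMapMod Λ f g f' g' w (canAdjP Λ g) K) := h ▸ inferInstance
    exact IsIso.of_isIso_comp_left
      ((EtModW.pull Λ g).rightDerivedFunctorPlus.map ((EtModW.push Λ f).rightDerivedFunctorPlus.map a.hom)) _
  haveI : IsIso ((uP Λ f).app C) :=
    (Groth.Agent.DerLib.LerayAcyclic.isIso_unit_iff (EtModW.push Λ f) I L c (𝟙 _)).2
      (by rw [CategoryTheory.Functor.map_id]; infer_instance)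
  let gI := ((EtModW.pull Λ g').mapHomologicalComplex (ComplexShape.up ℤ)).obj L
  haveI : CochainComplex.IsStrictlyGE gI c := by
    rw [CochainComplex.isStrictlyGE_iff]
    exact fun k hk => (EtModW.pull Λ g').map_isZero (L.isZero_of_isStrictlyGE c k hk)
  obtain ⟨J, ψ, _, _, _⟩ := CochainComplex.Plus.modelCategoryQuillen.exists_quasiIso_injective gI c
  let JP : CochainComplex.Plus (EtModW.Mod Λ X') := ⟨J, c, ‹_›⟩
  let p : (EtModW.pull Λ g').mapHomotopyCategoryPlus.obj C ⟶ (HomotopyCategory.Plus.quotient _).obj JP :=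
    ObjectProperty.homMk ((HomotopyCategory.quotient _ _).map ψ)
  haveI : IsIso ((QP Λ X').map p) :=
    Localization.inverts (QP Λ X') (HomotopyCategory.Plus.quasiIso _) _
      ((HomotopyCategory.quotient_map_mem_quasiIso_iff ψ).2 ((HomologicalComplex.mem_quasiIso_iff _).2 ‹_›))
  haveI : IsIso ((uP Λ f').app ((HomotopyCategory.Plus.quotient _).obj JP)) :=
    (Groth.Agent.DerLib.LerayAcyclic.isIso_unit_iff (EtModW.push Λ f') JP J c (𝟙 _)).2
      (by rw [CategoryTheory.Functor.map_id]; infer_instance)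
  have hq : QuasiIso (kappaMod Λ f g f' g' w L ≫ ((EtModW.push Λ f').mapHomologicalComplex _).map ψ) := by
    refine H L J c inferInstance inferInstance (fun n => inferInstance) (fun n => inferInstance) (fun k => ?_) ψ
      inferInstance
    exact ⟨((DerivedCategory.homologyFunctorFactorsh (EtModW.Mod Λ X) k).app _ ≪≫
        (HomotopyCategory.homologyFunctorFactors (EtModW.Mod Λ X) (ComplexShape.up ℤ) k).app L).symm ≪≫
      (DerivedCategory.Plus.homologyFunctor (EtModW.Mod Λ X) k).mapIso a⟩
  haveI : IsIso ((QP Λ S').map (plusMap Λ f g f' g' w C ≫ (EtModW.push Λ f').mapHomotopyCategoryPlus.map p)) := by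
    have : IsIso (DerivedCategory.Plus.ι.map
        ((QP Λ S').map (plusMap Λ f g f' g' w C ≫ (EtModW.push Λ f').mapHomotopyCategoryPlus.map p))) := by
      show IsIso (DerivedCategory.Qh.map ((HomotopyCategory.Plus.ι _).map
        (plusMap Λ f g f' g' w C ≫ (EtModW.push Λ f').mapHomotopyCategoryPlus.map p)))
      rw [Functor.map_comp, ι_map_plusMap]
      show IsIso (DerivedCategory.Qh.map ((HomotopyCategory.quotient _ _).map _ ≫
        (HomotopyCategory.quotient _ _).map (((EtModW.push Λ f').mapHomologicalComplex _).map ψ)))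
      rw [← Functor.map_comp]
      exact Localization.inverts DerivedCategory.Qh (HomotopyCategory.quasiIso _ (ComplexShape.up ℤ)) _
        ((HomotopyCategory.quotient_map_mem_quasiIso_iff _).2 ((HomologicalComplex.mem_quasiIso_iff _).2 hq))
    exact isIso_of_reflects_iso _ DerivedCategory.Plus.ι
  have hn := (uP Λ f').naturality p
  have hU := unit_bcMapMod Λ f g f' g' w C
  haveI : IsIso ((QP Λ S').map (plusMap Λ f g f' g' w C) ≫
        (uP Λ f').app ((EtModW.pull Λ g').mapHomotopyCategoryPlus.obj C)) := by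
    have e : ((QP Λ S').map (plusMap Λ f g f' g' w C) ≫
        (uP Λ f').app ((EtModW.pull Λ g').mapHomotopyCategoryPlus.obj C)) ≫
          (EtModW.push Λ f').rightDerivedFunctorPlus.map ((QP Λ X').map p) =
        (QP Λ S').map (plusMap Λ f g f' g' w C ≫ (EtModW.push Λ f').mapHomotopyCategoryPlus.map p) ≫
          (uP Λ f').app ((HomotopyCategory.Plus.quotient _).obj JP) := by
      rw [Functor.map_comp, Category.assoc, Category.assoc]
      exact congrArg (_ ≫ ·) hn.symm
    haveI : IsIso (((QP Λ S').map (plusMap Λ f g f' g' w C) ≫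
        (uP Λ f').app ((EtModW.pull Λ g').mapHomotopyCategoryPlus.obj C)) ≫
          (EtModW.push Λ f').rightDerivedFunctorPlus.map ((QP Λ X').map p)) := e ▸ inferInstance
    exact IsIso.of_isIso_comp_right _ ((EtModW.push Λ f').rightDerivedFunctorPlus.map ((QP Λ X').map p))
  haveI : IsIso ((vP Λ g).app ((EtModW.push Λ f).mapHomotopyCategoryPlus.obj C) ≫
        (EtModW.pull Λ g).rightDerivedFunctorPlus.map ((uP Λ f).app C) ≫
        EtSix.bcMapMod Λ f g f' g' w (canAdjP Λ g) ((QP Λ X).obj C)) := by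
    rw [hU, ← Category.assoc]
    haveI : IsIso ((vP Λ g').app C) := NatIso.isIso_app_of_isIso (vP Λ g') C
    exact IsIso.comp_isIso' ‹_› (Functor.map_isIso _ _)
  haveI : IsIso ((vP Λ g).app ((EtModW.push Λ f).mapHomotopyCategoryPlus.obj C)) :=
    NatIso.isIso_app_of_isIso (vP Λ g) _
  haveI := IsIso.of_isIso_comp_left ((vP Λ g).app ((EtModW.push Λ f).mapHomotopyCategoryPlus.obj C))
    ((EtModW.pull Λ g).rightDerivedFunctorPlus.map ((uP Λ f).app C) ≫
        EtSix.bcMapMod Λ f g f' g' w (canAdjP Λ g) ((QP Λ X).obj C))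
  exact IsIso.of_isIso_comp_left ((EtModW.pull Λ g).rightDerivedFunctorPlus.map ((uP Λ f).app C)) _

end EtPBCCxLib

end
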