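import Groth.Agent.EtPBCCxLib.Tor
import Groth.Agent.EtPBCProperLib.Main
import Groth.Agent.EtBcDLib.Deg

/-!
# Proper base change for bounded below complexes of abelian sheaves
-/

set_option autoImplicit false
set_option linter.unusedSectionVars false
set_option linter.style.haveILetI false
set_option backward.isDefEq.respectTransparency false
set_option backward.isDefEq.respectTransparency.types false
set_option maxHeartbeats 1000000
set_option synthInstance.maxHeartbeats 400000

universe u

open CategoryTheory CategoryTheory.Limits AlgebraicGeometry Opposite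
open Groth.Agent Groth.Agent.EtShLib EtPBCProperLib SpSeqLib

attribute [local instance] HasDerivedCategory.standard
attribute [local instance] EtSliceLib.pullExact CategoryTheory.Abelian.hasFiniteBiproducts

noncomputable section

namespace EtPBCCxLib

theorem additive_push {A B : Scheme.{u}} (h : A ⟶ B) : (EtCoh.push h).Additive :=
  (EtCoh.pullPushAdj h).right_adjoint_additive

theorem additive_pull {A B : Scheme.{u}} (h : A ⟶ B) : (EtCoh.pull h).Additive :=
  (EtCoh.pullPushAdj h).left_adjoint_additive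

attribute [local instance] additive_push additive_pull EtCore.pull_preservesFiniteColimits

theorem isSAcyclic_of_Rpush {A B : Scheme.{u}} (h : A ⟶ B) {F : EtCoh.Ab A}
    (hF : ∀ q, 0 < q → IsZero ((EtCoh.Rpush h q).obj F)) : IsSAcyclic (EtCoh.push h) F :=
  (isSAcyclic_iff _ F).2 hF

variable {X S X' S' : Scheme.{u}} (f : X ⟶ S) (g : S' ⟶ S) (f' : X' ⟶ S') (g' : X' ⟶ X)

/-- Degree zero base change is invertible on torsion sheaves. -/
theorem isIso_baseChange0 (hc : IsPullback g' f' f g) [IsProper f] {F : EtCoh.Ab X} (hF : EtCoh.IsTorsion F) :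
    IsIso (EtCoh.baseChange0 f g f' g' hc.w F) := by
  haveI := EtPBCProperLib.isIso_bcQ g f f' g' hc F hF 0
  haveI : IsIso ((EtCoh.push f).toRightDerivedZero.app F) := inferInstance
  haveI : IsIso ((EtCoh.push f').toRightDerivedZero.app ((EtCoh.pull g').obj F)) := inferInstance
  have h := EtBC.bcQ_zero_compat f g f' g' hc.w F
  haveI : IsIso (EtCoh.baseChange0 f g f' g' hc.w F ≫
      (EtCoh.push f').toRightDerivedZero.app ((EtCoh.pull g').obj F)) := h ▸ inferInstance
  exact IsIso.of_isIso_comp_right _ ((EtCoh.push f').toRightDerivedZero.app ((EtCoh.pull g').obj F))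

/-- Base change on a complex followed by a comparison. -/
def theta (w : g' ≫ f = f' ≫ g) (C : CochainComplex (EtCoh.Ab X) ℤ) {J : CochainComplex (EtCoh.Ab X') ℤ}
    (ψ : ((EtCoh.pull g').mapHomologicalComplex _).obj C ⟶ J) :
    ((EtCoh.pull g).mapHomologicalComplex _).obj (((EtCoh.push f).mapHomologicalComplex _).obj C) ⟶
      ((EtCoh.push f').mapHomologicalComplex _).obj J :=
  EtBcDLib.kappa f g f' g' w C ≫ ((EtCoh.push f').mapHomologicalComplex _).map ψ

theorem kappa_natural (w : g' ≫ f = f' ≫ g) {C C' : CochainComplex (EtCoh.Ab X) ℤ} (a : C ⟶ C') :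
    ((EtCoh.pull g).mapHomologicalComplex _).map (((EtCoh.push f).mapHomologicalComplex _).map a) ≫
        EtBcDLib.kappa f g f' g' w C' =
      EtBcDLib.kappa f g f' g' w C ≫
        ((EtCoh.push f').mapHomologicalComplex _).map (((EtCoh.pull g').mapHomologicalComplex _).map a) :=
  HomologicalComplex.hom_ext _ _ fun n => EtBcKilledLib.bc0_natural f g f' g' w (a.f n)

theorem map_theta (w : g' ≫ f = f' ≫ g) {C C' : CochainComplex (EtCoh.Ab X) ℤ} (a : C ⟶ C')
    {J : CochainComplex (EtCoh.Ab X') ℤ} (ψ : ((EtCoh.pull g').mapHomologicalComplex _).obj C' ⟶ J) :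
    ((EtCoh.pull g).mapHomologicalComplex _).map (((EtCoh.push f).mapHomologicalComplex _).map a) ≫
        theta f g f' g' w C' ψ =
      theta f g f' g' w C (((EtCoh.pull g').mapHomologicalComplex _).map a ≫ ψ) := by
  simp only [theta, Functor.map_comp]
  rw [← Category.assoc, kappa_natural, Category.assoc]

variable (hc : IsPullback g' f' f g) [IsProper f]

/-- Proper base change on a complex of injectives with torsion cohomology. -/
theorem quasiIso_theta_of_injective (C : CochainComplex (EtCoh.Ab X) ℤ) (m : ℤ) [C.IsStrictlyGE m]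
    [∀ n, Injective (C.X n)] (hC : ∀ i, EtCoh.IsTorsion (C.homology i))
    {J : CochainComplex (EtCoh.Ab X') ℤ} [J.IsStrictlyGE m] (hJ : ∀ n, IsSAcyclic (EtCoh.push f') (J.X n))
    (ψ : ((EtCoh.pull g').mapHomologicalComplex _).obj C ⟶ J) [QuasiIso ψ] :
    QuasiIso (theta f g f' g' hc.w C ψ) := by
  haveI := quasiIso_torCxι C hC
  haveI := isStrictlyGE_torCx C m
  haveI : QuasiIso (((EtCoh.push f).mapHomologicalComplex _).map (torCxι C)) :=
    quasiIso_map_of_isSAcyclic (EtCoh.push f) (torCxι C) m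
      (fun n => isSAcyclic_of_Rpush f fun q hq => isZero_Rpush_tor f (C.X n) q hq)
      (fun n => isSAcyclic_of_injective _ (C.X n))
  haveI : IsIso (EtBcDLib.kappa f g f' g' hc.w (torCx C)) := by
    haveI : ∀ n, IsIso ((EtBcDLib.kappa f g f' g' hc.w (torCx C)).f n) := fun n =>
      isIso_baseChange0 f g f' g' hc (isTorsion_tor (C.X n))
    exact HomologicalComplex.Hom.isIso_of_components _
  let ψ₀ : ((EtCoh.pull g').mapHomologicalComplex _).obj (torCx C) ⟶ J :=
    ((EtCoh.pull g').mapHomologicalComplex _).map (torCxι C) ≫ ψ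
  haveI : QuasiIso ψ₀ := quasiIso_comp _ _
  haveI : QuasiIso (((EtCoh.push f').mapHomologicalComplex _).map ψ₀) := by
    haveI : CochainComplex.IsStrictlyGE (((EtCoh.pull g').mapHomologicalComplex (ComplexShape.up ℤ)).obj (torCx C)) m := by
      rw [CochainComplex.isStrictlyGE_iff]
      exact fun i hi => (EtCoh.pull g').map_isZero ((torCx C).isZero_of_isStrictlyGE m i hi)
    exact quasiIso_map_of_isSAcyclic (EtCoh.push f') ψ₀ m
      (fun n => isSAcyclic_of_Rpush f' fun q hq => isZero_Rpush_pull_tor f g g' f' hc (C.X n) q hq) hJ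
  have h := map_theta f g f' g' hc.w (torCxι C) ψ
  haveI : QuasiIso (theta f g f' g' hc.w (torCx C) ψ₀) := quasiIso_comp _ _
  haveI : QuasiIso (((EtCoh.pull g).mapHomologicalComplex _).map
      (((EtCoh.push f).mapHomologicalComplex _).map (torCxι C)) ≫ theta f g f' g' hc.w C ψ) := by
    rw [h]
    exact ‹QuasiIso (theta f g f' g' hc.w (torCx C) ψ₀)›
  exact quasiIso_of_comp_left (((EtCoh.pull g).mapHomologicalComplex _).map
      (((EtCoh.push f).mapHomologicalComplex _).map (torCxι C))) _

/-- Proper base change on a bounded below complex of acyclic sheaves with torsion cohomology. -/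
theorem quasiIso_theta (C : CochainComplex (EtCoh.Ab X) ℤ) (m : ℤ) [C.IsStrictlyGE m]
    (hCa : ∀ n, IsSAcyclic (EtCoh.push f) (C.X n)) (hC : ∀ i, EtCoh.IsTorsion (C.homology i))
    {J : CochainComplex (EtCoh.Ab X') ℤ} [J.IsStrictlyGE m] (hJ : ∀ n, IsSAcyclic (EtCoh.push f') (J.X n))
    (ψ : ((EtCoh.pull g').mapHomologicalComplex _).obj C ⟶ J) [QuasiIso ψ] :
    QuasiIso (theta f g f' g' hc.w C ψ) := by
  obtain ⟨I₀, q, _, _, _⟩ := CochainComplex.Plus.modelCategoryQuillen.exists_quasiIso_injective C m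
  obtain ⟨J₀, φ, _, _, _⟩ := CochainComplex.Plus.modelCategoryQuillen.exists_quasiIso_injective J m
  haveI : J₀.IsKInjective := CochainComplex.isKInjective_of_injective J₀ m
  let Qt := HomotopyCategory.quotient (EtCoh.Ab X') (ComplexShape.up ℤ)
  let gq := ((EtCoh.pull g').mapHomologicalComplex (ComplexShape.up ℤ)).map q
  haveI : QuasiIso gq := inferInstance
  haveI : IsIso (DerivedCategory.Qh.map (Qt.map gq)) :=
    Localization.inverts DerivedCategory.Qh (HomotopyCategory.quasiIso (EtCoh.Ab X') (ComplexShape.up ℤ)) _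
      ((HomotopyCategory.quotient_map_mem_quasiIso_iff gq).2 ((HomologicalComplex.mem_quasiIso_iff _).2 ‹_›))
  obtain ⟨v, hv⟩ := (CochainComplex.IsKInjective.Qh_map_bijective _ J₀).2
    (inv (DerivedCategory.Qh.map (Qt.map gq)) ≫ DerivedCategory.Qh.map (Qt.map (ψ ≫ φ)))
  obtain ⟨ψ₀, hψ₀⟩ := Qt.map_surjective v
  have hkey : Qt.map (gq ≫ ψ₀) = Qt.map (ψ ≫ φ) := by
    apply (CochainComplex.IsKInjective.Qh_map_bijective _ J₀).1
    rw [Qt.map_comp, hψ₀, DerivedCategory.Qh.map_comp, hv, IsIso.hom_inv_id_assoc]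
  let ho := HomotopyCategory.homotopyOfEq (gq ≫ ψ₀) (ψ ≫ φ) hkey
  haveI : QuasiIso (gq ≫ ψ₀) := by
    have h2 : QuasiIso (ψ ≫ φ) := quasiIso_comp _ _
    exact ⟨fun i => by
      rw [quasiIsoAt_iff_isIso_homologyMap, ho.homologyMap_eq i, ← quasiIsoAt_iff_isIso_homologyMap]
      exact h2.quasiIsoAt i⟩
  haveI : QuasiIso ψ₀ := quasiIso_of_comp_left gq ψ₀
  haveI : QuasiIso (theta f g f' g' hc.w I₀ ψ₀) := by
    refine quasiIso_theta_of_injective f g f' g' hc I₀ m (fun i => ?_) (fun n => isSAcyclic_of_injective _ (J₀.X n)) ψ₀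
    haveI : QuasiIsoAt q i := ‹QuasiIso q›.quasiIsoAt i
    exact Groth.Agent.EtShLib.isTorsion_of_iso (isoOfQuasiIsoAt q i) (hC i)
  haveI : QuasiIso (((EtCoh.push f).mapHomologicalComplex _).map q) :=
    quasiIso_map_of_isSAcyclic (EtCoh.push f) q m hCa (fun n => isSAcyclic_of_injective _ (I₀.X n))
  haveI : QuasiIso (((EtCoh.push f').mapHomologicalComplex _).map φ) :=
    quasiIso_map_of_isSAcyclic (EtCoh.push f') φ m hJ (fun n => isSAcyclic_of_injective _ (J₀.X n))
  have h1 : QuasiIso (theta f g f' g' hc.w C (gq ≫ ψ₀)) := by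
    rw [← map_theta f g f' g' hc.w q ψ₀]
    exact quasiIso_comp _ _
  haveI : QuasiIso (theta f g f' g' hc.w C (ψ ≫ φ)) := ⟨fun i => by
    have hh : Homotopy (theta f g f' g' hc.w C (gq ≫ ψ₀)) (theta f g f' g' hc.w C (ψ ≫ φ)) :=
      ((EtCoh.push f').mapHomotopy ho).compLeft _
    rw [quasiIsoAt_iff_isIso_homologyMap, ← hh.homologyMap_eq i, ← quasiIsoAt_iff_isIso_homologyMap]
    exact h1.quasiIsoAt i⟩
  haveI : QuasiIso (theta f g f' g' hc.w C ψ ≫ ((EtCoh.push f').mapHomologicalComplex _).map φ) := by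
    have e : theta f g f' g' hc.w C ψ ≫ ((EtCoh.push f').mapHomologicalComplex _).map φ =
        theta f g f' g' hc.w C (ψ ≫ φ) := by simp [theta]
    rw [e]
    infer_instance
  exact quasiIso_of_comp_right _ (((EtCoh.push f').mapHomologicalComplex _).map φ)

end EtPBCCxLib

end
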