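import Groth.Prelude.Def_SixF1
import Groth.Agent.EpsLib.ModImage
import Groth.Agent.EtModHLib.Cech
import Groth.Agent.EtAcycLib.Local

/-!
# Underlying abelian sheaves of sheaves of modules: direct and inverse images
-/

set_option autoImplicit false
set_option linter.unusedSectionVars false
set_option linter.style.haveILetI false
set_option backward.isDefEq.respectTransparency false
set_option backward.isDefEq.respectTransparency.types false
set_option maxHeartbeats 1000000
set_option synthInstance.maxHeartbeats 400000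

universe u

open CategoryTheory CategoryTheory.Limits CategoryTheory.Abelian AlgebraicGeometry Opposite
open Groth.Agent Groth.Agent.EpsLib

noncomputable section

namespace EtPBCCxLib

variable (Λ : Type (u + 1)) [CommRing Λ]

/-- The underlying abelian sheaf. -/
abbrev fg (X : Scheme.{u}) : EtModW.Mod Λ X ⥤ EtCoh.Ab X := sheafCompose X.smallEtaleTopology (UF Λ)

variable {X Y : Scheme.{u}} (g : X ⟶ Y)

/-- The underlying map of the module unit. -/
def unitF (M : EtModW.Mod Λ Y) :
    (fg Λ Y).obj M ⟶ (EtCoh.push g).obj ((fg Λ X).obj ((EtModW.pull Λ g).obj M)) :=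
  (fg Λ Y).map ((EtSix.pullPushModAdj Λ g).unit.app M)

/-- The comparison morphism. -/
def cm (M : EtModW.Mod Λ Y) :
    (EtCoh.pull g).obj ((fg Λ Y).obj M) ⟶ (fg Λ X).obj ((EtModW.pull Λ g).obj M) :=
  ((EtCoh.pullPushAdj g).homEquiv _ _).symm (unitF Λ g M)

theorem homEquiv_cm (M : EtModW.Mod Λ Y) {A : EtCoh.Ab X}
    (a : (fg Λ X).obj ((EtModW.pull Λ g).obj M) ⟶ A) :
    (EtCoh.pullPushAdj g).homEquiv _ _ (cm Λ g M ≫ a) = unitF Λ g M ≫ (EtCoh.push g).map a := by
  rw [Adjunction.homEquiv_naturality_right, cm, Equiv.apply_symm_apply]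

/-- Direct image commutes with coinduction. -/
def castF (M : EtModW.Mod Λ Y) (A : EtCoh.Ab X) :
    (M ⟶ (EtModW.push Λ g).obj ((sheafCompose X.smallEtaleTopology (CoF Λ)).obj A)) ≃
      (M ⟶ (sheafCompose Y.smallEtaleTopology (CoF Λ)).obj ((EtCoh.push g).obj A)) where
  toFun a := ObjectProperty.homMk { app := fun V => a.hom.app V, naturality := fun _ _ b => a.hom.naturality b }
  invFun a := ObjectProperty.homMk { app := fun V => a.hom.app V, naturality := fun _ _ b => a.hom.naturality b }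
  left_inv a := rfl
  right_inv a := rfl

theorem unitF_bijective (M : EtModW.Mod Λ Y) (A : EtCoh.Ab X) : Function.Bijective
    (fun a : (fg Λ X).obj ((EtModW.pull Λ g).obj M) ⟶ A => unitF Λ g M ≫ (EtCoh.push g).map a) := by
  let E1 := (adjC Λ X.smallEtaleTopology).homEquiv ((EtModW.pull Λ g).obj M) A
  let E2 := (EtSix.pullPushModAdj Λ g).homEquiv M ((sheafCompose X.smallEtaleTopology (CoF Λ)).obj A)
  let E3 := castF Λ g M A
  let E4 := ((adjC Λ Y.smallEtaleTopology).homEquiv M ((EtCoh.push g).obj A)).symm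
  have h : ∀ a, unitF Λ g M ≫ (EtCoh.push g).map a = E4 (E3 (E2 (E1 a))) := fun a => by
    obtain ⟨b, rfl⟩ := E1.symm.surjective a
    rw [Equiv.apply_symm_apply]
    apply Sheaf.hom_ext
    ext V : 2
    refine Eq.trans ?_ (adjC_symm_app Λ Y.smallEtaleTopology (E3 (E2 b)) V).symm
    show (UF Λ).map (((EtSix.pullPushModAdj Λ g).unit.app M).hom.app V) ≫
      (((adjC Λ X.smallEtaleTopology).homEquiv ((EtModW.pull Λ g).obj M) A).symm b).hom.app ((EtCoh.bc g).op.obj V) = _
    rw [adjC_symm_app, ← Category.assoc, ← Functor.map_comp]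
    refine congrArg (fun m => (UF Λ).map m ≫ (Adjunction.ofIsLeftAdjoint (UF Λ)).counit.app (A.obj.obj ((EtCoh.bc g).op.obj V))) ?_
    show _ = ((EtSix.pullPushModAdj Λ g).homEquiv M ((sheafCompose X.smallEtaleTopology (CoF Λ)).obj A) b).hom.app V
    rw [Adjunction.homEquiv_unit]
    rfl
  rw [show (fun a => unitF Λ g M ≫ (EtCoh.push g).map a) = fun a => E4 (E3 (E2 (E1 a))) from funext h]
  exact (((E1.trans E2).trans E3).trans E4).bijective

theorem isIso_cm (M : EtModW.Mod Λ Y) : IsIso (cm Λ g M) := by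
  refine isIso_of_coyoneda_map_bijective _ fun A => ?_
  have h : (fun a : (fg Λ X).obj ((EtModW.pull Λ g).obj M) ⟶ A => cm Λ g M ≫ a) =
      fun a => ((EtCoh.pullPushAdj g).homEquiv _ _).symm (unitF Λ g M ≫ (EtCoh.push g).map a) :=
    funext fun a => by rw [← homEquiv_cm, Equiv.symm_apply_apply]
  rw [h]
  exact ((EtCoh.pullPushAdj g).homEquiv _ _).symm.bijective.comp (unitF_bijective Λ g M A)

theorem cm_naturality {M N : EtModW.Mod Λ Y} (a : M ⟶ N) :
    (EtCoh.pull g).map ((fg Λ Y).map a) ≫ cm Λ g N =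
      cm Λ g M ≫ (fg Λ X).map ((EtModW.pull Λ g).map a) := by
  apply ((EtCoh.pullPushAdj g).homEquiv _ _).injective
  rw [Adjunction.homEquiv_naturality_left, homEquiv_cm, cm, Equiv.apply_symm_apply]
  show (fg Λ Y).map a ≫ (fg Λ Y).map ((EtSix.pullPushModAdj Λ g).unit.app N) =
    (fg Λ Y).map ((EtSix.pullPushModAdj Λ g).unit.app M) ≫
      (fg Λ Y).map ((EtModW.push Λ g).map ((EtModW.pull Λ g).map a))
  exact ((fg Λ Y).map_comp _ _).symm.trans
    ((congrArg _ ((EtSix.pullPushModAdj Λ g).unit.naturality a)).trans ((fg Λ Y).map_comp _ _))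

section Square

variable {S X' S' : Scheme.{u}} (f : X ⟶ S) (s : S' ⟶ S) (f' : X' ⟶ S') (g' : X' ⟶ X) (w : g' ≫ f = f' ≫ s)

/-- The square transport of abelian sheaves. -/
abbrev sqA : EtCoh.push g' ⋙ EtCoh.push f ≅ EtCoh.push f' ⋙ EtCoh.push s :=
  EtCoh.pushComp f g' ≪≫ EtCoh.pushCongr w ≪≫ (EtCoh.pushComp s f').symm

theorem map_sq (N : EtModW.Mod Λ X') :
    (fg Λ S).map ((EtSix.pushModComp Λ f g').hom.app N ≫ (EtSix.pushModCongr Λ w).hom.app N ≫
        (EtSix.pushModComp Λ s f').inv.app N) =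
      (EtCoh.pushComp f g').hom.app ((fg Λ X').obj N) ≫ (EtCoh.pushCongr w).hom.app ((fg Λ X').obj N) ≫
        (EtCoh.pushComp s f').inv.app ((fg Λ X').obj N) := by
  rw [Functor.map_comp, Functor.map_comp]
  rfl

theorem map_baseChange0Mod (M : EtModW.Mod Λ X) :
    cm Λ s ((EtModW.push Λ f).obj M) ≫ (fg Λ S').map (EtSix.baseChange0Mod Λ f s f' g' w M) =
      EtCoh.baseChange0 f s f' g' w ((fg Λ X).obj M) ≫ (EtCoh.push f').map (cm Λ g' M) := by
  apply ((EtCoh.pullPushAdj s).homEquiv _ _).injective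
  rw [homEquiv_cm, EtCoh.baseChange0, Adjunction.homEquiv_naturality_right]
  refine Eq.trans ?_ (congrArg (· ≫ _) (Equiv.apply_symm_apply _ _)).symm
  have h1 : unitF Λ s ((EtModW.push Λ f).obj M) ≫
      (EtCoh.push s).map ((fg Λ S').map (EtSix.baseChange0Mod Λ f s f' g' w M)) =
      (fg Λ S).map ((EtSix.pushToPushPullMod Λ f s f' g' w).app M) := by
    show (fg Λ S).map ((EtSix.pullPushModAdj Λ s).unit.app ((EtModW.push Λ f).obj M)) ≫
      (fg Λ S).map ((EtModW.push Λ s).map (EtSix.baseChange0Mod Λ f s f' g' w M)) = _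
    refine ((fg Λ S).map_comp _ _).symm.trans (congrArg _ ?_)
    exact ((EtSix.pullPushModAdj Λ s).homEquiv_unit (f := EtSix.baseChange0Mod Λ f s f' g' w M)).symm.trans
      (Equiv.apply_symm_apply _ _)
  rw [h1]
  have h2 : (EtSix.pushToPushPullMod Λ f s f' g' w).app M =
      (EtModW.push Λ f).map ((EtSix.pullPushModAdj Λ g').unit.app M) ≫
        ((EtSix.pushModComp Λ f g').hom.app _ ≫ (EtSix.pushModCongr Λ w).hom.app _ ≫
          (EtSix.pushModComp Λ s f').inv.app _) := by
    simp [EtSix.pushToPushPullMod]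
  rw [h2, Functor.map_comp, map_sq]
  have h3 : (EtCoh.pullPushAdj g').unit.app ((fg Λ X).obj M) ≫ (EtCoh.push g').map (cm Λ g' M) = unitF Λ g' M :=
    ((EtCoh.pullPushAdj g').homEquiv_unit (f := cm Λ g' M)).symm.trans (Equiv.apply_symm_apply _ _)
  have h4 : (fg Λ S).map ((EtModW.push Λ f).map ((EtSix.pullPushModAdj Λ g').unit.app M)) =
      (EtCoh.push f).map ((EtCoh.pullPushAdj g').unit.app ((fg Λ X).obj M)) ≫
        (EtCoh.push f).map ((EtCoh.push g').map (cm Λ g' M)) := by
    rw [← Functor.map_comp, h3]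
    rfl
  rw [h4, Category.assoc, Category.assoc]
  refine congrArg (_ ≫ ·) ?_
  exact ((sqA f s f' g' w).hom.naturality (cm Λ g' M)).trans (by simp [sqA])

end Square

/-- Higher extensions from the free sheaves into sheaves without Čech cohomology vanish. -/
theorem subsingleton_ext_cechAcy {M : EtCoh.Ab X} {W : X.Etale} (R : EtShLib.SectRep M W) :
    ∀ (p : ℕ) (G : EtCoh.Ab X), EtModHLib.CechAcy G → Subsingleton (Ext.{u + 1} M G (p + 1))
  | 0, G, hG => by
    haveI : Injective (CohLib.injSC G).X₂ := inferInstanceAs (Injective (Injective.under G))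
    haveI := CohLib.subsingleton_ext_injective.{u + 1} M (CohLib.injSC G).X₂ 0
    refine CohLib.subsingleton_ext_one_of_lift (CohLib.injSC_shortExact G) fun a => ?_
    obtain ⟨t, ht⟩ := EtModHLib.surjective_sections_all (CohLib.injSC_shortExact G) hG W (R.e _ a)
    refine ⟨(R.e _).symm t, (R.e _).injective ?_⟩
    rw [← R.nat, AddEquiv.apply_symm_apply]
    exact ht
  | p + 1, G, hG => by
    haveI : Injective (CohLib.injSC G).X₂ := inferInstanceAs (Injective (Injective.under G))
    haveI := CohLib.subsingleton_ext_injective.{u + 1} M (CohLib.injSC G).X₂ (p + 1)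
    haveI := subsingleton_ext_cechAcy R p _ (EtModHLib.cechAcy_quotient (CohLib.injSC_shortExact G) hG)
    exact CohLib.subsingleton_ext_of_shift (CohLib.injSC_shortExact G)

/-- Sections over an object, corepresented by the free sheaf. -/
def sectRepFree (W : X.Etale) : EtShLib.SectRep (EtSliceLib.free W) W where
  e F :=
    { toFun := fun a => a.hom.app (op W) (EtSliceLib.gen W)
      invFun := fun s => EtSliceLib.desc W s
      left_inv := fun a => EtSliceLib.free_hom_ext W (EtSliceLib.desc_gen W _)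
      right_inv := fun s => EtSliceLib.desc_gen W s
      map_add' := fun a b => rfl }
  nat a b := rfl

/-- The underlying sheaf of an injective sheaf of modules is acyclic for direct images. -/
theorem isZero_Rpush_injective (M : EtModW.Mod Λ X) [Injective M] (q : ℕ) (hq : 0 < q) :
    IsZero ((EtCoh.Rpush g q).obj ((fg Λ X).obj M)) := by
  obtain ⟨j, rfl⟩ : ∃ j, q = j + 1 := ⟨q - 1, by omega⟩
  refine EtAcycLib.isZero_Rpush_of_killed g j _ fun W y v => ⟨W, 𝟙 W, ⟨v, rfl⟩, ?_⟩
  haveI := subsingleton_ext_cechAcy (sectRepFree ((EtCoh.bc g).obj W)) j _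
    (EtModHLib.cechAcy_forget_injective Λ M)
  exact Subsingleton.elim (α := Ext.{u + 1} (EtSliceLib.free ((EtCoh.bc g).obj W)) ((fg Λ X).obj M) (j + 1)) _ _

end EtPBCCxLib

end
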