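import Groth.Agent.EtPBCCxLib.Bridge
import Groth.Agent.EtPBCCxLib.Forget
import Groth.Agent.EtPBCCxLib.Core

/-!
# Proper base change for bounded below complexes of sheaves of modules
-/

set_option autoImplicit false
set_option linter.unusedSectionVars false
set_option linter.style.haveILetI false
set_option backward.isDefEq.respectTransparency false
set_option backward.isDefEq.respectTransparency.types false
set_option maxHeartbeats 2000000
set_option synthInstance.maxHeartbeats 400000

universe u

open CategoryTheory CategoryTheory.Limits AlgebraicGeometry Opposite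
open Groth.Agent Groth.Agent.EpsLib SpSeqLib

attribute [local instance] HasDerivedCategory.standard
attribute [local instance] EtSliceLib.pullExact CategoryTheory.Abelian.hasFiniteBiproducts

noncomputable section

namespace EtPBCCxLib

attribute [local instance] additive_push additive_pull pullMod_pfl pullMod_pfc EtCore.pull_preservesFiniteColimits

variable (Λ : Type (u + 1)) [CommRing Λ]

theorem fg_pfl (X : Scheme.{u}) : PreservesFiniteLimits (fg Λ X) := sheafU_preservesFiniteLimits Λ _

theorem fg_pfc (X : Scheme.{u}) : PreservesFiniteColimits (fg Λ X) := sheafU_preservesFiniteColimits Λ _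

theorem fg_additive (X : Scheme.{u}) : (fg Λ X).Additive :=
  haveI := fg_pfl Λ X
  Functor.additive_of_preserves_binary_products _

theorem fg_refl (X : Scheme.{u}) : (fg Λ X).ReflectsIsomorphisms := ⟨fun a _ => sheafU_reflectsIso Λ _ a⟩

attribute [local instance] fg_pfl fg_pfc fg_additive fg_refl

variable {X X' : Scheme.{u}} (g' : X' ⟶ X)

/-- The comparison on a complex. -/
def cmCx (L : CochainComplex (EtModW.Mod Λ X) ℤ) :
    ((EtCoh.pull g').mapHomologicalComplex _).obj (((fg Λ X).mapHomologicalComplex _).obj L) ≅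
      ((fg Λ X').mapHomologicalComplex _).obj (((EtModW.pull Λ g').mapHomologicalComplex _).obj L) :=
  HomologicalComplex.Hom.isoOfComponents
    (fun n => haveI := isIso_cm Λ g' (L.X n); asIso (cm Λ g' (L.X n)))
    (fun i j _ => (cm_naturality Λ g' (L.d i j)).symm)

variable {S S' : Scheme.{u}} (f : X ⟶ S) (g : S' ⟶ S) (f' : X' ⟶ S')

/-- Proper base change for bounded below complexes of sheaves of modules with torsion cohomology. -/
theorem isIso_bcMapMod_of_proper (hc : IsPullback g' f' f g) [IsProper f]
    (adj : (EtModW.pull Λ g).rightDerivedFunctorPlus ⊣ (EtModW.push Λ g).rightDerivedFunctorPlus)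
    (K : DerivedCategory.Plus (EtModW.Mod Λ X))
    (hK : ∀ i : ℤ, EtCoh.IsTorsion ((EtModD.forgetToAb Λ X).obj
      ((DerivedCategory.Plus.homologyFunctor (EtModW.Mod Λ X) i).obj K))) :
    IsIso (EtSix.bcMapMod Λ f g f' g' hc.w adj K) := by
  refine isIso_bcMapMod Λ f g f' g' hc.w adj K fun I J m _ _ _ _ hI ψ _ => ?_
  let C := ((fg Λ X).mapHomologicalComplex (ComplexShape.up ℤ)).obj I
  let J₁ := ((fg Λ X').mapHomologicalComplex (ComplexShape.up ℤ)).obj J
  haveI : CochainComplex.IsStrictlyGE C m := by
    rw [CochainComplex.isStrictlyGE_iff]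
    exact fun k hk => (fg Λ X).map_isZero (I.isZero_of_isStrictlyGE m k hk)
  haveI : CochainComplex.IsStrictlyGE J₁ m := by
    rw [CochainComplex.isStrictlyGE_iff]
    exact fun k hk => (fg Λ X').map_isZero (J.isZero_of_isStrictlyGE m k hk)
  let ψ₁ := (cmCx Λ g' I).hom ≫ ((fg Λ X').mapHomologicalComplex _).map ψ
  haveI : QuasiIso ψ₁ := quasiIso_comp _ _
  have htors : ∀ i, EtCoh.IsTorsion (C.homology i) := fun i => by
    obtain ⟨a⟩ := hI i
    exact Groth.Agent.EtShLib.isTorsion_of_iso
      (((I.sc i).mapHomologyIso (fg Λ X)).trans ((fg Λ X).mapIso a)).symm (hK i)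
  haveI : QuasiIso (theta f g f' g' hc.w C ψ₁) :=
    quasiIso_theta f g f' g' hc C m (fun n => isSAcyclic_of_Rpush f fun q hq => isZero_Rpush_injective Λ f (I.X n) q hq)
      htors (fun n => isSAcyclic_of_Rpush f' fun q hq => isZero_Rpush_injective Λ f' (J.X n) q hq) ψ₁
  rw [← HomologicalComplex.quasiIso_map_iff_of_preservesHomology _ (fg Λ S')]
  let c₁ := (cmCx Λ g (((EtModW.push Λ f).mapHomologicalComplex _).obj I)).hom
  haveI : QuasiIso (c₁ ≫ ((fg Λ S').mapHomologicalComplex _).map
      (kappaMod Λ f g f' g' hc.w I ≫ ((EtModW.push Λ f').mapHomologicalComplex _).map ψ)) := by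
    have e : c₁ ≫ ((fg Λ S').mapHomologicalComplex _).map
        (kappaMod Λ f g f' g' hc.w I ≫ ((EtModW.push Λ f').mapHomologicalComplex _).map ψ) =
        theta f g f' g' hc.w C ψ₁ := by
      refine HomologicalComplex.hom_ext _ _ fun n => ?_
      show cm Λ g ((EtModW.push Λ f).obj (I.X n)) ≫ (fg Λ S').map
          (EtSix.baseChange0Mod Λ f g f' g' hc.w (I.X n) ≫ (EtModW.push Λ f').map (ψ.f n)) =
        EtCoh.baseChange0 f g f' g' hc.w ((fg Λ X).obj (I.X n)) ≫
          (EtCoh.push f').map (cm Λ g' (I.X n) ≫ (fg Λ X').map (ψ.f n))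
      rw [Functor.map_comp, Functor.map_comp, ← Category.assoc, map_baseChange0Mod, Category.assoc]
      rfl
    rw [e]
    infer_instance
  exact quasiIso_of_comp_left c₁ _

end EtPBCCxLib

end
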