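import Groth.Agent.EtPBCProperLib.BigSite
import Groth.Agent.SpSeqLib.AcyclicComplex
import Mathlib.Algebra.Homology.HomologicalComplexAbelian

/-!
# The torsion part of a complex of injective sheaves
-/

set_option autoImplicit false
set_option linter.unusedSectionVars false
set_option linter.style.haveILetI false
set_option backward.isDefEq.respectTransparency false
set_option backward.isDefEq.respectTransparency.types false
set_option maxHeartbeats 1000000
set_option synthInstance.maxHeartbeats 400000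

universe u

open CategoryTheory CategoryTheory.Limits AlgebraicGeometry Opposite
open Groth.Agent Groth.Agent.EtShLib EtPBCProperLib

attribute [local instance] EtSliceLib.pullExact CategoryTheory.Abelian.hasFiniteBiproducts

noncomputable section

namespace EtPBCCxLib

variable {X : Scheme.{u}}

theorem stk_comp_apply {A B C : EtCoh.Ab X} {Ω : Type u} [Field Ω] [IsSepClosed Ω]
    (ξ : Spec (CommRingCat.of Ω) ⟶ X) (φ : A ⟶ B) (ψ : B ⟶ C) (p : (stk (A := AddCommGrpCat.{u + 1}) ξ).obj A) :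
    (stk (A := AddCommGrpCat.{u + 1}) ξ).map (φ ≫ ψ) p =
      (stk (A := AddCommGrpCat.{u + 1}) ξ).map ψ ((stk (A := AddCommGrpCat.{u + 1}) ξ).map φ p) := by
  rw [Functor.map_comp]
  rfl

theorem nsmul_id_stk (A : EtCoh.Ab X) {Ω : Type u} [Field Ω] [IsSepClosed Ω]
    (ξ : Spec (CommRingCat.of Ω) ⟶ X) (m : ℕ) (p : (stk (A := AddCommGrpCat.{u + 1}) ξ).obj A) :
    (stk (A := AddCommGrpCat.{u + 1}) ξ).map (m • 𝟙 A) p = m • p := by
  rw [nsmul_map_stk, CategoryTheory.Functor.map_id]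
  rfl

/-- Torsion elements die in the quotient by the torsion part. -/
theorem pi_stalk_eq_zero (J : EtCoh.Ab X) {Ω : Type u} [Field Ω] [IsSepClosed Ω]
    (ξ : Spec (CommRingCat.of Ω) ⟶ X) (k : ℕ) (hk : 0 < k)
    (p : (stk (A := AddCommGrpCat.{u + 1}) ξ).obj J) (hkp : k • p = 0) :
    (stk (A := AddCommGrpCat.{u + 1}) ξ).map (cokernel.π (torι J)) p = 0 := by
  let S := stk (A := AddCommGrpCat.{u + 1}) ξ
  let T := ShortComplex.mk (kernel.ι (k.factorial • 𝟙 J)) (k.factorial • 𝟙 J) (kernel.condition _)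
  have hex := (ShortComplex.exact_of_f_is_kernel T (kernelIsKernel _)).map S
  obtain ⟨z, rfl⟩ : ∃ z, S.map (kernel.ι (k.factorial • 𝟙 J)) z = p := by
    refine (ShortComplex.ab_exact_iff _).1 hex p ?_
    show S.map (k.factorial • 𝟙 J) p = 0
    rw [nsmul_id_stk]
    obtain ⟨d, hd⟩ := Nat.dvd_factorial hk le_rfl
    rw [hd, mul_comm, mul_smul, hkp, nsmul_zero]
  have h1 : kernel.ι (k.factorial • 𝟙 J) ≫ cokernel.π (torι J) = 0 := by
    have h2 : colimit.ι (torDiag J) ((AsSmall.up (C := ℕ)).obj k) ≫ torι J =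
        kernel.ι (k.factorial • 𝟙 J) := colimit.ι_desc _ _
    rw [← h2, Category.assoc, cokernel.condition, comp_zero]
  rw [← stk_comp_apply, h1, S.map_zero]
  rfl

/-- Morphisms out of torsion sheaves factor through the torsion part. -/
theorem comp_pi_eq_zero {F : EtCoh.Ab X} (hF : EtCoh.IsTorsion F) {J : EtCoh.Ab X} (a : F ⟶ J) :
    a ≫ cokernel.π (torι J) = 0 := by
  apply Sheaf.hom_ext
  ext U x
  refine eq_of_germ (cokernel (torι J)) _ _ fun Ω _ _ ξ u => ?_
  let S := stk (A := AddCommGrpCat.{u + 1}) ξ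
  refine (germ_natural_apply ξ (a ≫ cokernel.π (torι J)) U.unop u x).symm.trans
    (Eq.trans ?_ (germ_natural_apply ξ (0 : F ⟶ cokernel (torι J)) U.unop u x))
  generalize germ (A := AddCommGrpCat.{u + 1}) ξ F U.unop u x = p
  obtain ⟨k, hk, hkp⟩ := torsionBy_of_isTorsion hF Ω ξ p
  refine (stk_comp_apply ξ _ _ p).trans ?_
  rw [show (stk (A := AddCommGrpCat.{u + 1}) ξ).map (0 : F ⟶ cokernel (torι J)) = 0 from S.map_zero _ _]
  exact pi_stalk_eq_zero J ξ k hk _ (by rw [← map_nsmul, hkp, map_zero])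

/-- Functoriality of the torsion part. -/
def torMap {J J' : EtCoh.Ab X} (φ : J ⟶ J') : tor J ⟶ tor J' :=
  Abelian.monoLift (torι J') (torι J ≫ φ) (comp_pi_eq_zero (isTorsion_tor J) _)

@[reassoc (attr := simp)]
theorem torMap_ι {J J' : EtCoh.Ab X} (φ : J ⟶ J') : torMap φ ≫ torι J' = torι J ≫ φ :=
  Abelian.monoLift_comp _ _ _

/-- The torsion part of a complex. -/
def torCx (I : CochainComplex (EtCoh.Ab X) ℤ) : CochainComplex (EtCoh.Ab X) ℤ where
  X n := tor (I.X n)
  d i j := torMap (I.d i j)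
  shape i j h := by
    rw [← cancel_mono (torι (I.X j)), torMap_ι, I.shape i j h, comp_zero, zero_comp]
  d_comp_d' i j k _ _ := by
    rw [← cancel_mono (torι (I.X k)), Category.assoc, torMap_ι, torMap_ι_assoc, I.d_comp_d, comp_zero, zero_comp]

/-- The inclusion. -/
def torCxι (I : CochainComplex (EtCoh.Ab X) ℤ) : torCx I ⟶ I where
  f n := torι (I.X n)
  comm' i j _ := (torMap_ι (I.d i j)).symm

instance (I : CochainComplex (EtCoh.Ab X) ℤ) : Mono (torCxι I) :=
  haveI : ∀ n, Mono ((torCxι I).f n) := fun n => mono_torι (I.X n)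
  HomologicalComplex.mono_of_mono_f _ (fun n => mono_torι (I.X n))

theorem isStrictlyGE_torCx (I : CochainComplex (EtCoh.Ab X) ℤ) (m : ℤ) [I.IsStrictlyGE m] :
    (torCx I).IsStrictlyGE m := by
  rw [CochainComplex.isStrictlyGE_iff]
  intro i hi
  exact IsZero.of_mono (torι (I.X i)) (I.isZero_of_isStrictlyGE m i hi)

/-- Sheaves with a monomorphism into a torsion sheaf are torsion. -/
theorem isTorsion_of_mono {A B : EtCoh.Ab X} (φ : A ⟶ B) [Mono φ] (hB : EtCoh.IsTorsion B) :
    EtCoh.IsTorsion A := by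
  refine isTorsion_of_torsionBy fun Ω _ _ ξ p => ?_
  obtain ⟨m, hm, hp⟩ := torsionBy_of_isTorsion hB Ω ξ ((stk (A := AddCommGrpCat.{u + 1}) ξ).map φ p)
  refine ⟨m, hm, (AddCommGrpCat.mono_iff_injective ((stk (A := AddCommGrpCat.{u + 1}) ξ).map φ)).1
    ((mono_iff_stalks (A := AddCommGrpCat.{u + 1}) φ).1 inferInstance Ω ξ) ?_⟩
  rw [map_nsmul, hp, map_zero]

/-- Quotients of torsion sheaves are torsion. -/
theorem isTorsion_of_epi {A B : EtCoh.Ab X} (φ : A ⟶ B) [Epi φ] (hA : EtCoh.IsTorsion A) :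
    EtCoh.IsTorsion B := by
  refine isTorsion_of_torsionBy fun Ω _ _ ξ p => ?_
  obtain ⟨a, rfl⟩ := (AddCommGrpCat.epi_iff_surjective ((stk (A := AddCommGrpCat.{u + 1}) ξ).map φ)).1
    inferInstance p
  obtain ⟨m, hm, ha⟩ := torsionBy_of_isTorsion hA Ω ξ a
  exact ⟨m, hm, by rw [← map_nsmul, ha, map_zero]⟩

/-- Extensions of torsion sheaves are torsion. -/
theorem isTorsion_of_exact {S : ShortComplex (EtCoh.Ab X)} (hS : S.Exact) (h₁ : EtCoh.IsTorsion S.X₁)
    (h₃ : EtCoh.IsTorsion S.X₃) : EtCoh.IsTorsion S.X₂ := by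
  refine isTorsion_of_torsionBy fun Ω _ _ ξ p => ?_
  obtain ⟨m, hm, hp⟩ := torsionBy_of_isTorsion h₃ Ω ξ ((stk (A := AddCommGrpCat.{u + 1}) ξ).map S.g p)
  obtain ⟨a, ha⟩ := (ShortComplex.ab_exact_iff _).1 (hS.map (stk (A := AddCommGrpCat.{u + 1}) ξ)) (m • p)
    ((map_nsmul ((stk (A := AddCommGrpCat.{u + 1}) ξ).map S.g).hom m p).trans hp)
  obtain ⟨k, hk, hka⟩ := torsionBy_of_isTorsion h₁ Ω ξ a
  refine ⟨k * m, Nat.mul_pos hk hm, ?_⟩
  rw [mul_smul, ← ha]
  exact ((map_nsmul _ k a).symm.trans (congrArg _ hka)).trans (map_zero _)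

theorem isTorsion_homology (K : CochainComplex (EtCoh.Ab X) ℤ) (i : ℤ) (h : EtCoh.IsTorsion (K.X i)) :
    EtCoh.IsTorsion (K.homology i) :=
  isTorsion_of_epi (K.homologyπ i) (isTorsion_of_mono (K.iCycles i) h)

/-- A torsion sheaf on which all positive integers are invertible vanishes. -/
theorem isZero_of_isTorsion_divisible {A : EtCoh.Ab X} (hA : EtCoh.IsTorsion A)
    (h : ∀ n : ℕ, 0 < n → IsIso (n • 𝟙 A)) : IsZero A := by
  rw [IsZero.iff_id_eq_zero]
  apply Sheaf.hom_ext
  ext U x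
  refine eq_of_germ A _ _ fun Ω _ _ ξ u => ?_
  have h0 : germ (A := AddCommGrpCat.{u + 1}) ξ A U.unop u x = 0 := by
    generalize germ (A := AddCommGrpCat.{u + 1}) ξ A U.unop u x = p
    obtain ⟨m, hm, hp⟩ := torsionBy_of_isTorsion hA Ω ξ p
    haveI := h m hm
    refine (ConcreteCategory.bijective_of_isIso ((stk (A := AddCommGrpCat.{u + 1}) ξ).map (m • 𝟙 A))).1 ?_
    rw [nsmul_id_stk, hp, map_zero]
  exact h0.trans (map_zero _).symm

theorem isIso_nsmul_coker (J : EtCoh.Ab X) [Injective J] {n : ℕ} (hn : 0 < n) :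
    IsIso (n • 𝟙 (cokernel (torι J))) := by
  haveI := epi_nsmul J hn
  haveI : Epi (n • 𝟙 (cokernel (torι J))) := by
    have h : cokernel.π (torι J) ≫ (n • 𝟙 (cokernel (torι J))) = (n • 𝟙 J) ≫ cokernel.π (torι J) := by simp
    haveI : Epi (cokernel.π (torι J) ≫ (n • 𝟙 (cokernel (torι J)))) := by
      rw [h]; infer_instance
    exact epi_of_epi (cokernel.π (torι J)) _
  haveI : Mono (n • 𝟙 (cokernel (torι J))) := by
    refine (mono_iff_stalks _).2 fun Ω _ _ ξ => (AddCommGrpCat.mono_iff_injective _).2 ?_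
    let S := stk (A := AddCommGrpCat.{u + 1}) ξ
    refine (injective_iff_map_eq_zero _).2 fun p hp => ?_
    obtain ⟨a, rfl⟩ := (AddCommGrpCat.epi_iff_surjective (S.map (cokernel.π (torι J)))).1 inferInstance p
    change S.map (n • 𝟙 _) (S.map (cokernel.π (torι J)) a) = 0 at hp
    rw [nsmul_id_stk, ← map_nsmul] at hp
    let T := ShortComplex.mk (torι J) (cokernel.π (torι J)) (cokernel.condition _)
    obtain ⟨z, hz⟩ := (ShortComplex.ab_exact_iff _).1
      ((ShortComplex.exact_of_g_is_cokernel T (cokernelIsCokernel _)).map S) (n • a) hp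
    obtain ⟨m, hm, hzm⟩ := torsionBy_of_isTorsion (isTorsion_tor J) Ω ξ z
    refine pi_stalk_eq_zero J ξ (m * n) (Nat.mul_pos hm hn) a ?_
    rw [mul_smul, ← hz]
    exact ((map_nsmul _ m z).symm.trans (congrArg _ hzm)).trans (map_zero _)
  exact isIso_of_mono_of_epi _

/-- The torsion part of a complex of injectives with torsion cohomology is quasi-isomorphic to it. -/
theorem quasiIso_torCxι (I : CochainComplex (EtCoh.Ab X) ℤ) [∀ n, Injective (I.X n)]
    (hI : ∀ i, EtCoh.IsTorsion (I.homology i)) : QuasiIso (torCxι I) := by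
  let S : ShortComplex (CochainComplex (EtCoh.Ab X) ℤ) :=
    ShortComplex.mk (torCxι I) (cokernel.π (torCxι I)) (cokernel.condition _)
  have hS : S.ShortExact := HomologicalComplex.shortExact_of_degreewise_shortExact S fun i => by
    let T := S.map (HomologicalComplex.eval (EtCoh.Ab X) (ComplexShape.up ℤ) i)
    haveI : Mono T.f := mono_torι (I.X i)
    haveI : Epi T.g := inferInstanceAs
      (Epi ((HomologicalComplex.eval (EtCoh.Ab X) (ComplexShape.up ℤ) i).map (cokernel.π (torCxι I))))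
    exact { exact := ShortComplex.exact_of_g_is_cokernel T (isColimitOfHasCokernelOfPreservesColimit
      (HomologicalComplex.eval (EtCoh.Ab X) (ComplexShape.up ℤ) i) (torCxι I)) }
  let Q := S.X₃
  have hT : ∀ i, EtCoh.IsTorsion ((torCx I).homology i) := fun i =>
    isTorsion_homology (torCx I) i (isTorsion_tor (I.X i))
  have hQ : ∀ i, EtCoh.IsTorsion (Q.homology i) := fun i =>
    isTorsion_of_exact (hS.homology_exact₃ i (i + 1) (by simp)) (hI i) (hT (i + 1))
  have hiso : ∀ n : ℕ, 0 < n → IsIso (n • 𝟙 Q) := fun n hn => by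
    haveI : ∀ i, IsIso ((n • 𝟙 Q).f i) := fun i => by
      let e : Q.X i ≅ cokernel (torι (I.X i)) :=
        PreservesCokernel.iso (HomologicalComplex.eval (EtCoh.Ab X) (ComplexShape.up ℤ) i) (torCxι I)
      haveI := isIso_nsmul_coker (I.X i) hn
      have he : (n • 𝟙 Q).f i = e.hom ≫ (n • 𝟙 _) ≫ e.inv := by simp
      rw [he]
      infer_instance
    exact HomologicalComplex.Hom.isIso_of_components _
  have hz : ∀ i, IsZero (Q.homology i) := fun i => isZero_of_isTorsion_divisible (hQ i) fun n hn => by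
    haveI := hiso n hn
    have h : HomologicalComplex.homologyMap (n • 𝟙 Q) i = n • 𝟙 (Q.homology i) := by
      show (HomologicalComplex.homologyFunctor (EtCoh.Ab X) (ComplexShape.up ℤ) i).map (n • 𝟙 Q) = _
      rw [Functor.map_nsmul, CategoryTheory.Functor.map_id]
      rfl
    rw [← h]
    infer_instance
  refine ⟨fun i => ?_⟩
  rw [quasiIsoAt_iff_isIso_homologyMap]
  haveI : Mono (HomologicalComplex.homologyMap (torCxι I) i) :=
    (hS.homology_exact₁ (i - 1) i (by simp)).mono_g ((hz (i - 1)).eq_of_src _ _)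
  haveI : Epi (HomologicalComplex.homologyMap (torCxι I) i) :=
    (hS.homology_exact₂ i).epi_f ((hz i).eq_of_tgt _ _)
  exact isIso_of_mono_of_epi _

end EtPBCCxLib

end
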